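import Cfsg.Agent.Lib.KnownSimple.PSUThreeSpectrum

/-!
Numeric codes for the field with 25 elements and for matrices over it.
-/

set_option autoImplicit false
set_option linter.unusedSectionVars false

namespace CfsgLib.MinIndex.U35

open Matrix CfsgLib.Amalgams

/-- The code `a + 5 b` stands for `a + b r` with `r ^ 2 = 2`. -/
def addN (x y : ℕ) : ℕ := (x % 5 + y % 5) % 5 + 5 * ((x / 5 + y / 5) % 5)

/-- Product of codes. -/
def mulN (x y : ℕ) : ℕ :=
  (x % 5 * (y % 5) + 2 * (x / 5) * (y / 5)) % 5 + 5 * ((x % 5 * (y / 5) + x / 5 * (y % 5)) % 5)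

/-- Negation of codes. -/
def negN (x : ℕ) : ℕ := (4 * (x % 5)) % 5 + 5 * ((4 * (x / 5)) % 5)

/-- Conjugation of codes. -/
def sgN (x : ℕ) : ℕ := x % 5 + 5 * ((4 * (x / 5)) % 5)

/-- Matrices of codes. -/
abbrev MN : Type := Fin 3 → Fin 3 → ℕ

/-- A matrix of codes from its nine entries. -/
def ofList (l : List ℕ) : MN := fun i j => l.getD (3 * i.val + j.val) 0

/-- Product of matrices of codes. -/
def mmN (A B : MN) : MN := fun i j =>
  addN (addN (mulN (A i 0) (B 0 j)) (mulN (A i 1) (B 1 j))) (mulN (A i 2) (B 2 j))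

/-- Scalar matrix of codes. -/
def scN (z : ℕ) : MN := fun i j => if i = j then z else 0

/-- Product of codes for a word in given generators. -/
def evalN (X : Fin 5 → MN) : List (Fin 5) → MN
  | [] => scN 1
  | i :: w => mmN (X i) (evalN X w)

/-- The antidiagonal form in codes. -/
def antiN : MN := ofList [0, 0, 1, 0, 1, 0, 1, 0, 0]

/-- Determinant in codes. -/
def detN (A : MN) : ℕ :=
  addN (addN (mulN (A 0 0) (addN (mulN (A 1 1) (A 2 2)) (negN (mulN (A 1 2) (A 2 1)))))
      (negN (mulN (A 0 1) (addN (mulN (A 1 0) (A 2 2)) (negN (mulN (A 1 2) (A 2 0)))))))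
    (mulN (A 0 2) (addN (mulN (A 1 0) (A 2 1)) (negN (mulN (A 1 1) (A 2 0)))))

/-- Codes below 25. -/
def Small (A : MN) : Prop := ∀ i j, A i j < 25

variable {F : Type*} [Field F] [CharP F 5]

/-- The value of a code. -/
def phi (r : F) (x : ℕ) : F := ((x % 5 : ℕ) : F) + ((x / 5 : ℕ) : F) * r

/-- The matrix of a code matrix. -/
def toMat (r : F) (A : MN) : Matrix (Fin 3) (Fin 3) F := Matrix.of fun i j => phi r (A i j)

theorem cast_mod (n : ℕ) : ((n % 5 : ℕ) : F) = (n : F) := by
  conv_rhs => rw [← Nat.mod_add_div n 5]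
  rw [Nat.cast_add, Nat.cast_mul, CharP.cast_eq_zero F 5, zero_mul, add_zero]

theorem phi_pair (r : F) {a b : ℕ} : phi r (a % 5 + 5 * (b % 5)) = (a : F) + (b : F) * r := by
  unfold phi
  rw [show (a % 5 + 5 * (b % 5)) / 5 = b % 5 by omega, show (a % 5 + 5 * (b % 5)) % 5 = a % 5 by omega,
    cast_mod, cast_mod]

theorem phi_add (r : F) (x y : ℕ) : phi r (addN x y) = phi r x + phi r y := by
  rw [addN, phi_pair, phi, phi]
  push_cast
  ring

theorem phi_mul {r : F} (hr : r * r = 2) (x y : ℕ) : phi r (mulN x y) = phi r x * phi r y := by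
  rw [mulN, phi_pair, phi, phi]
  push_cast
  linear_combination (-((x / 5 : ℕ) : F) * ((y / 5 : ℕ) : F)) * hr

theorem five_eq_zero : (5 : F) = 0 := by simpa using CharP.cast_eq_zero F 5

theorem phi_neg (r : F) (x : ℕ) : phi r (negN x) = -phi r x := by
  rw [negN, phi_pair, phi]
  push_cast
  linear_combination (((x % 5 : ℕ) : F) + ((x / 5 : ℕ) : F) * r) * five_eq_zero (F := F)

theorem phi_sg {σ : F →+* F} {r : F} (hσ : σ r = -r) (x : ℕ) : phi r (sgN x) = σ (phi r x) := by
  unfold sgN
  conv_lhs => rw [show x % 5 = x % 5 % 5 by omega]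
  rw [phi_pair, phi, map_add, map_mul, map_natCast, map_natCast, hσ]
  push_cast
  linear_combination (((x / 5 : ℕ) : F) * r) * five_eq_zero (F := F)

theorem phi_zero (r : F) : phi r 0 = 0 := by simp [phi]

theorem phi_one (r : F) : phi r 1 = 1 := by simp [phi]

theorem sq_ne_two (n : ℕ) : (n : F) * (n : F) ≠ 2 := by
  intro h
  have hmod : (n * n) % 5 ≠ 2 := by
    rw [Nat.mul_mod]
    have := Nat.mod_lt n (show 5 > 0 by norm_num)
    interval_cases n % 5 <;> norm_num
  have h2 : ((n * n : ℕ) : F) = ((2 : ℕ) : F) := by push_cast; exact h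
  rw [CharP.natCast_eq_natCast F 5] at h2
  exact hmod h2

theorem phi_injective {r : F} (hr : r * r = 2) {x y : ℕ} (hx : x < 25) (hy : y < 25)
    (h : phi r x = phi r y) : x = y := by
  have hz : phi r (addN x (negN y)) = 0 := by rw [phi_add, phi_neg, h, add_neg_cancel]
  have hzero : ∀ z < 25, phi r z = 0 → z = 0 := by
    intro z hz hp
    unfold phi at hp
    by_cases hb : ((z / 5 : ℕ) : F) = 0
    · rw [hb, zero_mul, add_zero, CharP.cast_eq_zero_iff F 5] at hp
      rw [CharP.cast_eq_zero_iff F 5] at hb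
      omega
    · exfalso
      have hr' : r * ((z / 5 : ℕ) : F) = -((z % 5 : ℕ) : F) := by linear_combination hp
      obtain ⟨k, hk⟩ : ∃ k : ℕ, ((z / 5 : ℕ) : F) * (k : F) = 1 := by
        rw [CharP.cast_eq_zero_iff F 5] at hb
        obtain h5 | h5 | h5 | h5 : z / 5 = 1 ∨ z / 5 = 2 ∨ z / 5 = 3 ∨ z / 5 = 4 := by omega
        · exact ⟨1, by rw [h5]; simp⟩
        · exact ⟨3, by rw [h5]; push_cast; linear_combination five_eq_zero (F := F)⟩
        · exact ⟨2, by rw [h5]; push_cast; linear_combination five_eq_zero (F := F)⟩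
        · exact ⟨4, by rw [h5]; push_cast; linear_combination 3 * five_eq_zero (F := F)⟩
      refine sq_ne_two (F := F) (z % 5 * k) ?_
      have e : r = -(((z % 5 : ℕ) : F) * k) := by linear_combination k * hr' - r * hk
      push_cast
      rw [← hr, e]
      ring
  have hlt : addN x (negN y) < 25 := by unfold addN; omega
  have h0 := hzero _ hlt hz
  have key : ∀ x < 25, ∀ y < 25, addN x (negN y) = 0 → x = y := by decide +kernel
  exact key x hx y hy h0

theorem toMat_mul {r : F} (hr : r * r = 2) (A B : MN) : toMat r (mmN A B) = toMat r A * toMat r B := by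
  ext i j
  simp [toMat, mmN, Matrix.mul_apply, Fin.sum_univ_three, phi_add, phi_mul hr]

theorem toMat_sc (r : F) (z : ℕ) : toMat r (scN z) = Matrix.scalar (Fin 3) (phi r z) := by
  ext i j
  by_cases h : i = j
  · subst h; simp [toMat, scN]
  · simp [toMat, scN, h, phi_zero]

theorem toMat_det {r : F} (hr : r * r = 2) (A : MN) : (toMat r A).det = phi r (detN A) := by
  simp only [detN, Matrix.det_fin_three, toMat, Matrix.of_apply, phi_add, phi_neg, phi_mul hr]
  ring

theorem toMat_sg {σ : F →+* F} {r : F} (hσ : σ r = -r) (A : MN) :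
    toMat r (fun i j => sgN (A i j)) = (toMat r A).map σ := by
  ext i j
  simp [toMat, phi_sg hσ]

theorem toMat_transpose (r : F) (A : MN) : toMat r (fun i j => A j i) = (toMat r A)ᵀ := by
  ext i j
  simp [toMat]

theorem toMat_anti (r : F) : toMat r antiN = antiForm := by
  ext i j
  fin_cases i <;> fin_cases j <;> simp [toMat, antiN, ofList, antiForm, phi_zero, phi_one]

/-- A certified code gives an element of the special unitary group. -/
theorem exists_mem_suAnti {σ : F →+* F} {r : F} (hr : r * r = 2) (hσ : σ r = -r) {A : MN}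
    (hd : detN A = 1) (hf : ∀ i j, mmN (mmN (fun i j => A j i) antiN) (fun i j => sgN (A i j)) i j = antiN i j) :
    ∃ g : suAnti σ, mat₃ σ g = toMat r A := by
  refine ⟨⟨⟨toMat r A, by rw [toMat_det hr, hd, phi_one]⟩, mem_suAnti.2 ?_⟩, rfl⟩
  show (toMat r A)ᵀ * antiForm * (toMat r A).map σ = antiForm
  rw [← toMat_transpose, ← toMat_anti r, ← toMat_sg hσ, ← toMat_mul hr, ← toMat_mul hr]
  exact congrArg (toMat r) (funext fun i => funext fun j => hf i j)

end CfsgLib.MinIndex.U35
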