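import Mathlib

/-!
A simple group of order 126000 with the local structure of PSU₃(5) has no proper subgroup of index below 50.
-/

set_option autoImplicit false
set_option linter.unusedSectionVars false
set_option linter.style.haveILetI false

namespace CfsgLib.MinIndex.U35

open scoped Pointwise

/-- The arithmetic behind the bound: for each possible index one of three obstructions applies. -/
def Bad (m : ℕ) : Bool :=
  let h := 126000 / m
  let q := Nat.gcd h 125
  decide (¬ 126000 ∣ m.factorial) ||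
    (decide (7 ∣ h) && decide ((h / 7) % 7 ≠ 1) && !(decide (21 ∣ h) && decide ((h / 21) % 7 = 1))) ||
    (decide (5 ∣ h) && decide (1000 < h) &&
      (List.range (h / q + 1)).all fun n => !decide (n ∣ h / q) || !decide (n % q = 1) || decide (n = 1))

theorem bad_of_lt : ∀ m < 50, 2 ≤ m → m ∣ 126000 → Bad m = true := by decide +kernel

variable {G : Type*} [Group G] [Finite G]

theorem not_dvd_factorial [IsSimpleGroup G] {H : Subgroup G} (hH : H ≠ ⊤) :
    Nat.card G ∣ H.index.factorial := by
  classical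
  have hcore : H.normalCore = ⊥ :=
    H.normalCore_normal.eq_bot_or_eq_top.resolve_right fun e => hH (eq_top_iff.2 (e ▸ H.normalCore_le))
  have hinj : Function.Injective (MulAction.toPermHom G (G ⧸ H)) := by
    rw [← MonoidHom.ker_eq_bot_iff, ← Subgroup.normalCore_eq_ker, hcore]
  have h := Subgroup.card_dvd_of_injective _ hinj
  rwa [Nat.card_perm, ← Subgroup.index] at h

/-- Sylow subgroups meeting trivially have number congruent to one modulo their order. -/
theorem card_sylow_mod {p : ℕ} [Fact p.Prime] (Q : Sylow p G)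
    (hTI : ∀ P : Sylow p G, (Q : Subgroup G) ⊓ P ≠ ⊥ → Q = P) :
    Nat.card ↥(Q : Subgroup G) ∣ Nat.card (Sylow p G) - 1 := by
  classical
  haveI := Fintype.ofFinite (Sylow p G)
  let X : SubMulAction ↥(Q : Subgroup G) (Sylow p G) :=
    { carrier := {P | P ≠ Q}
      smul_mem' := fun g P hP e => hP (by
        have h : (g : G) • P = Q := e
        rw [← inv_smul_smul (g : G) P, h, Sylow.smul_eq_iff_mem_normalizer]
        exact inv_mem (Subgroup.le_normalizer g.2)) }
  have hfree : ∀ P : X, MulAction.stabilizer ↥(Q : Subgroup G) P = ⊥ := by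
    intro P
    refine (Subgroup.eq_bot_iff_forall _).2 fun g hg => ?_
    have h : (g : G) • (P : Sylow p G) = P := congrArg Subtype.val hg
    rw [Sylow.smul_eq_iff_mem_normalizer] at h
    by_contra hg1
    refine P.2 (hTI P ?_).symm
    intro hbot
    have h2 : (g : G) ∈ (Q : Subgroup G) ⊓ (P : Sylow p G) := by
      have h3 := IsPGroup.inf_normalizer_sylow Q.2 (P : Sylow p G)
      exact h3 ▸ (⟨g.2, h⟩ : (g : G) ∈ (Q : Subgroup G) ⊓ Subgroup.normalizer _)
    rw [hbot] at h2
    exact hg1 (Subtype.ext h2)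
  have hdvd : Nat.card ↥(Q : Subgroup G) ∣ Nat.card X := by
    rw [Nat.card_congr (MulAction.selfEquivSigmaOrbits ↥(Q : Subgroup G) X), Nat.card_sigma]
    refine Finset.dvd_sum fun ω _ => ?_
    rw [Nat.card_congr (MulAction.orbitEquivQuotientStabilizer ↥(Q : Subgroup G) ω.out), hfree,
      ← Subgroup.index, Subgroup.index_bot]
  have hX : Nat.card X = Nat.card (Sylow p G) - 1 := by
    show Nat.card {P : Sylow p G // P ≠ Q} = _
    rw [Nat.card_eq_fintype_card, Fintype.card_subtype_compl, Fintype.card_subtype_eq,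
      Nat.card_eq_fintype_card]
  rwa [hX] at hdvd

theorem false_of_seven (hcard : Nat.card G = 126000)
    (hord : ∀ x : G, x ^ 6 = 1 ∨ x ^ 10 = 1 ∨ x ^ 8 = 1 ∨ x ^ 7 = 1) {H : Subgroup G}
    (h7 : 7 ∣ Nat.card H) (hn : (Nat.card H / 7) % 7 ≠ 1)
    (hn' : ¬ (21 ∣ Nat.card H ∧ (Nat.card H / 21) % 7 = 1)) : False := by
  classical
  haveI : Fact (Nat.Prime 7) := ⟨by norm_num⟩
  -- Sylow 7-subgroups have order 7 and are self-centralising
  have hf : ∀ P : Sylow 7 G, Nat.card ↥(P : Subgroup G) = 7 := by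
    intro P
    rw [P.card_eq_multiplicity, hcard, show (126000 : ℕ) = 7 ^ 1 * 18000 by norm_num,
      Nat.factorization_mul (by norm_num) (by norm_num), Finsupp.add_apply,
      Nat.Prime.factorization_pow (by norm_num), Finsupp.single_eq_same,
      Nat.factorization_eq_zero_of_not_dvd (by norm_num)]
    norm_num
  have hcent : ∀ P : Sylow 7 G, Subgroup.centralizer ((P : Subgroup G) : Set G) ≤ (P : Subgroup G) := by
    intro P
    haveI : Nontrivial ↥(P : Subgroup G) := Finite.one_lt_card_iff_nontrivial.1 (by rw [hf]; norm_num)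
    obtain ⟨⟨x, hx⟩, hx1⟩ := exists_ne (1 : ↥(P : Subgroup G))
    have hx7 : x ^ 7 = 1 := by
      have h := pow_card_eq_one' (x := (⟨x, hx⟩ : ↥(P : Subgroup G)))
      rw [hf] at h
      exact congrArg Subtype.val h
    have hox : orderOf x = 7 := orderOf_eq_prime hx7 fun e => hx1 (Subtype.ext e)
    have hpow : ∀ y ∈ Subgroup.centralizer ((P : Subgroup G) : Set G), y ^ 7 = 1 := by
      intro y hy
      have hc : Commute x y := Subgroup.mem_centralizer_iff.1 hy x hx
      -- a commuting element of order prime to seven would give a forbidden order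
      have h7' : ∀ z : G, Commute x z → z ^ 7 = 1 ∨ orderOf z % 7 = 0 := by
        intro z hz
        by_cases hzd : 7 ∣ orderOf z
        · exact Or.inr (Nat.mod_eq_zero_of_dvd hzd)
        left
        have hco : (orderOf x).Coprime (orderOf z) := by
          rw [hox]; exact (Nat.Prime.coprime_iff_not_dvd (by norm_num)).2 hzd
        have hxz : orderOf (x * z) = 7 * orderOf z := by
          rw [hz.orderOf_mul_eq_mul_orderOf_of_coprime hco, hox]
        rcases hord (x * z) with e | e | e | e <;>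
          have hd := (orderOf_dvd_of_pow_eq_one e) <;> rw [hxz] at hd
        · exact absurd (dvd_of_mul_right_dvd hd) (by norm_num)
        · exact absurd (dvd_of_mul_right_dvd hd) (by norm_num)
        · exact absurd (dvd_of_mul_right_dvd hd) (by norm_num)
        · have : orderOf z = 1 := by
            have h1 : orderOf z ∣ 1 := Nat.dvd_of_mul_dvd_mul_left (by norm_num : 0 < 7) (by simpa using hd)
            exact Nat.dvd_one.1 h1
          rw [orderOf_eq_one_iff.1 this, one_pow]
      rcases h7' y hc with h | h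
      · exact h
      rcases hord y with e | e | e | e
      all_goals have hd := orderOf_dvd_of_pow_eq_one e
      · exact absurd ((Nat.dvd_of_mod_eq_zero h).trans hd) (by norm_num)
      · exact absurd ((Nat.dvd_of_mod_eq_zero h).trans hd) (by norm_num)
      · exact absurd ((Nat.dvd_of_mod_eq_zero h).trans hd) (by norm_num)
      · exact e
    have hp : IsPGroup 7 (Subgroup.centralizer ((P : Subgroup G) : Set G)) := fun y =>
      ⟨1, Subtype.ext (by simpa using hpow y y.2)⟩
    have hPc : (P : Subgroup G) ≤ Subgroup.centralizer ((P : Subgroup G) : Set G) := by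
      haveI := isCyclic_of_prime_card (hf P)
      letI : CommGroup ↥(P : Subgroup G) := IsCyclic.commGroup
      exact fun a ha => Subgroup.mem_centralizer_iff.2 fun b hb =>
        congrArg Subtype.val (mul_comm (⟨b, hb⟩ : ↥(P : Subgroup G)) ⟨a, ha⟩)
    exact le_of_eq (P.3 hp hPc)
  have hN : ∀ P : Sylow 7 G, Nat.card ↥(Subgroup.normalizer (P : Set G)) ∣ 42 := by
    intro P
    show Nat.card ↥(Subgroup.normalizer ((P : Subgroup G) : Set G)) ∣ 42
    set N := Subgroup.normalizer ((P : Subgroup G) : Set G) with hN0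
    have hker : (Subgroup.normalizerMonoidHom (P : Subgroup G)).ker ≤ (P : Subgroup G).subgroupOf N := by
      rw [Subgroup.normalizerMonoidHom_ker]
      exact fun y hy => hcent P hy
    have h := Subgroup.card_dvd_of_injective _
      (QuotientGroup.kerLift_injective (Subgroup.normalizerMonoidHom (P : Subgroup G)))
    haveI := isCyclic_of_prime_card (hf P)
    rw [Nat.card_congr (IsCyclic.mulAutMulEquiv ↥(P : Subgroup G)).toEquiv, Nat.card_eq_fintype_card (α := (ZMod _)ˣ), ZMod.card_units_eq_totient,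
      hf P, Nat.totient_prime (by norm_num)] at h
    have h2 : Nat.card (Subgroup.normalizerMonoidHom (P : Subgroup G)).ker ∣ 7 :=
      (Subgroup.card_dvd_of_le hker).trans (by
        rw [Nat.card_congr (Subgroup.subgroupOfEquivOfLe Subgroup.le_normalizer).toEquiv, hf P])
    rw [Subgroup.card_eq_card_quotient_mul_card_subgroup (Subgroup.normalizerMonoidHom (P : Subgroup G)).ker]
    exact Nat.mul_dvd_mul h h2
  have hN21 : ∀ P : Sylow 7 G, Nat.card ↥(Subgroup.normalizer (P : Set G)) ∣ 21 := by
    intro P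
    have h1 := P.card_eq_index_normalizer
    have h2 := card_sylow_modEq_one 7 G
    have h3 := (Subgroup.normalizer (P : Set G)).card_mul_index
    rw [h1, Nat.ModEq] at h2
    rw [hcard] at h3
    have h4 := hN P
    have h5 : Nat.card ↥(Subgroup.normalizer (P : Set G)) ≤ 42 := Nat.le_of_dvd (by norm_num) h4
    have h6 : 0 < Nat.card ↥(Subgroup.normalizer (P : Set G)) := Nat.card_pos
    generalize Nat.card ↥(Subgroup.normalizer (P : Set G)) = N at *
    interval_cases N <;> omega
  -- count in H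
  obtain ⟨PH⟩ : Nonempty (Sylow 7 H) := inferInstance
  have hPH : Nat.card ↥(PH : Subgroup H) = 7 := by
    have h1 : 7 ∣ Nat.card ↥(PH : Subgroup H) := PH.dvd_card_of_dvd_card h7
    have h2 : Nat.card ↥(PH : Subgroup H) ∣ 7 := by
      obtain ⟨P, hP⟩ := (PH.2.map H.subtype).exists_le_sylow
      have := Subgroup.card_dvd_of_le hP
      rwa [hf P, Subgroup.card_map_of_injective H.subtype_injective] at this
    exact Nat.dvd_antisymm h2 h1
  obtain ⟨P, hP⟩ := (PH.2.map H.subtype).exists_le_sylow
  have hPeq : (PH : Subgroup H).map H.subtype = (P : Subgroup G) := by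
    refine Subgroup.eq_of_le_of_card_ge hP ?_
    rw [hf P, Subgroup.card_map_of_injective H.subtype_injective, hPH]
  have hNH : Nat.card ↥(Subgroup.normalizer (PH : Set H)) ∣ 21 := by
    refine dvd_trans ?_ (hN21 P)
    rw [← Subgroup.card_map_of_injective H.subtype_injective]
    refine Subgroup.card_dvd_of_le ?_
    show (Subgroup.normalizer ((PH : Subgroup H) : Set H)).map H.subtype ≤
      Subgroup.normalizer ((P : Subgroup G) : Set G)
    rw [← hPeq]
    exact Subgroup.le_normalizer_map H.subtype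
  have hdiv7 : 7 ∣ Nat.card ↥(Subgroup.normalizer (PH : Set H)) := by
    exact (dvd_of_eq hPH.symm).trans
      (Subgroup.card_dvd_of_le (Subgroup.le_normalizer (H := (PH : Subgroup H))))
  have h1 := PH.card_eq_index_normalizer
  have h2 := card_sylow_modEq_one 7 H
  have h3 := (Subgroup.normalizer (PH : Set H)).card_mul_index
  rw [h1, Nat.ModEq] at h2
  have h5 : Nat.card ↥(Subgroup.normalizer (PH : Set H)) = 7 ∨
      Nat.card ↥(Subgroup.normalizer (PH : Set H)) = 21 := by
    have h6 := Nat.le_of_dvd (by norm_num) hNH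
    generalize Nat.card ↥(Subgroup.normalizer (PH : Set H)) = N at *
    have hpos : 0 < N := Nat.pos_of_dvd_of_pos hNH (by norm_num)
    interval_cases N <;> omega
  rcases h5 with e | e <;> rw [e] at h3
  · exact hn (by rw [← h3, Nat.mul_div_cancel_left _ (by norm_num)]; exact h2)
  · exact hn' ⟨Dvd.intro _ h3, by rw [← h3, Nat.mul_div_cancel_left _ (by norm_num)]; exact h2⟩

theorem false_of_five [Fact (Nat.Prime 5)] (hcard : Nat.card G = 126000)
    (hTI : ∀ P P' : Sylow 5 G, (P : Subgroup G) ⊓ P' ≠ ⊥ → P = P')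
    (hN : ∀ P : Sylow 5 G, Nat.card ↥(Subgroup.normalizer (P : Set G)) ≤ 1000) {H : Subgroup G}
    (h5 : 5 ∣ Nat.card H) (hbig : 1000 < Nat.card H)
    (hn : ∀ n, n ∣ Nat.card H / Nat.gcd (Nat.card H) 125 → n % Nat.gcd (Nat.card H) 125 = 1 → n = 1) :
    False := by
  classical
  obtain ⟨Q⟩ : Nonempty (Sylow 5 H) := inferInstance
  obtain ⟨k, hk⟩ := IsPGroup.iff_card.1 Q.2
  have hQd : Nat.card ↥(Q : Subgroup H) ∣ 125 := by
    have h : Nat.card ↥(Q : Subgroup H) ∣ 126000 := by
      rw [← hcard]
      exact (Subgroup.card_subgroup_dvd_card _).trans (Subgroup.card_subgroup_dvd_card H)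
    rw [hk] at h ⊢
    rw [show 126000 = 125 * 1008 by norm_num] at h
    exact (Nat.Coprime.pow_left k (by norm_num)).dvd_of_dvd_mul_right h
  have hq : Nat.card ↥(Q : Subgroup H) = Nat.gcd (Nat.card H) 125 := by
    refine Nat.dvd_antisymm (Nat.dvd_gcd (Subgroup.card_subgroup_dvd_card _) hQd) ?_
    obtain ⟨j, -, hj⟩ := (Nat.dvd_prime_pow (by norm_num : Nat.Prime 5)).1
      (show Nat.gcd (Nat.card H) 125 ∣ 5 ^ 3 by norm_num; exact Nat.gcd_dvd_right _ _)
    rw [hj]
    exact Q.pow_dvd_card_of_pow_dvd_card (hj ▸ Nat.gcd_dvd_left _ _)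
  have hQ1 : (Q : Subgroup H) ≠ ⊥ := fun e => by
    have h := Q.dvd_card_of_dvd_card h5
    rw [e, Subgroup.card_bot] at h
    norm_num at h
  have hmono : ∀ R : Sylow 5 H, ∃ P : Sylow 5 G, (R : Subgroup H).map H.subtype ≤ (P : Subgroup G) ∧
      (R : Subgroup H) = (P : Subgroup G).subgroupOf H := by
    intro R
    obtain ⟨P, hP⟩ := (R.2.map H.subtype).exists_le_sylow
    refine ⟨P, hP, ?_⟩
    refine (R.3 (P.2.comap_of_injective H.subtype H.subtype_injective) ?_).symm
    exact Subgroup.map_le_iff_le_comap.1 hP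
  have hTIH : ∀ R : Sylow 5 H, (Q : Subgroup H) ⊓ R ≠ ⊥ → Q = R := by
    intro R hR
    obtain ⟨P, hP, eP⟩ := hmono Q
    obtain ⟨P', hP', eP'⟩ := hmono R
    obtain ⟨x, hx, hx1⟩ := (Subgroup.bot_or_exists_ne_one _).resolve_left hR
    have : P = P' := hTI P P' fun hbot => hx1 (Subtype.ext (by
      have h : (x : G) ∈ (P : Subgroup G) ⊓ P' := ⟨hP ⟨x, hx.1, rfl⟩, hP' ⟨x, hx.2, rfl⟩⟩
      rw [hbot] at h
      exact h))
    subst this
    exact Sylow.ext (eP.trans eP'.symm)
  have hone : Nat.card (Sylow 5 H) = 1 := by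
    have h1 := card_sylow_mod Q hTIH
    have h2 : Nat.card (Sylow 5 H) ∣ (Q : Subgroup H).index := Q.card_dvd_index
    have h3 := (Q : Subgroup H).card_mul_index
    refine hn _ ?_ ?_
    · rw [← hq]
      refine h2.trans (dvd_of_eq ?_)
      conv_rhs => rw [← h3]
      rw [Nat.mul_div_cancel_left _ Nat.card_pos]
    · rw [← hq]
      have hpos : 0 < Nat.card (Sylow 5 H) := Nat.card_pos
      obtain ⟨c, hc⟩ := h1
      rw [show Nat.card (Sylow 5 H) = Nat.card ↥(Q : Subgroup H) * c + 1 by omega, Nat.mul_add_mod]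
      refine Nat.mod_eq_of_lt ?_
      exact (Subgroup.one_lt_card_iff_ne_bot _).2 hQ1
  haveI : Subsingleton (Sylow 5 H) := (Nat.card_eq_one_iff_unique.1 hone).1
  haveI : (Q : Subgroup H).Normal := Sylow.normal_of_subsingleton Q
  obtain ⟨P, hP, -⟩ := hmono Q
  obtain ⟨x, hx, hx1⟩ := (Subgroup.bot_or_exists_ne_one _).resolve_left hQ1
  have hle : H ≤ Subgroup.normalizer (P : Set G) := by
    intro g hg
    rw [← Sylow.smul_eq_iff_mem_normalizer]
    refine (hTI P (g • P) fun hbot => hx1 (Subtype.ext ?_)).symm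
    have hmem : ((⟨g, hg⟩ : H)⁻¹ * x * (⟨g, hg⟩ : H)) ∈ (Q : Subgroup H) :=
      (inferInstance : (Q : Subgroup H).Normal).conj_mem' x hx _
    have h : (x : G) ∈ (P : Subgroup G) ⊓ ((g • P : Sylow 5 G) : Subgroup G) := by
      refine ⟨hP ⟨x, hx, rfl⟩, ?_⟩
      show (x : G) ∈ MulAut.conj g • (P : Subgroup G)
      rw [Subgroup.mem_pointwise_smul_iff_inv_smul_mem]
      have := hP ⟨_, hmem, rfl⟩
      simpa [MulAut.smul_def, Subgroup.coe_subtype] using this
    rw [hbot] at h
    exact h
  exact absurd ((Subgroup.card_le_of_le hle).trans (hN P)) (by omega)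

/-- The bound. -/
theorem fifty_le_index [IsSimpleGroup G] [Fact (Nat.Prime 5)] (hcard : Nat.card G = 126000)
    (hord : ∀ x : G, x ^ 6 = 1 ∨ x ^ 10 = 1 ∨ x ^ 8 = 1 ∨ x ^ 7 = 1)
    (hTI : ∀ P P' : Sylow 5 G, (P : Subgroup G) ⊓ P' ≠ ⊥ → P = P')
    (hN : ∀ P : Sylow 5 G, Nat.card ↥(Subgroup.normalizer (P : Set G)) ≤ 1000)
    {H : Subgroup G} (hH : H ≠ ⊤) : 50 ≤ H.index := by
  classical
  by_contra hlt
  push Not at hlt
  have h2 : 2 ≤ H.index := Subgroup.one_lt_index_of_ne_top hH
  have hdvd : H.index ∣ 126000 := hcard ▸ H.index_dvd_card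
  have hmul := H.card_mul_index
  rw [hcard] at hmul
  have hh : 126000 / H.index = Nat.card H := by
    rw [← hmul, Nat.mul_div_cancel _ (by omega)]
  have hbad := bad_of_lt H.index hlt h2 hdvd
  simp only [Bad, hh, Bool.or_eq_true, Bool.and_eq_true, decide_eq_true_eq, Bool.not_eq_true',
    Bool.and_eq_false_iff, decide_eq_false_iff_not, List.all_eq_true, List.mem_range] at hbad
  rcases hbad with (hf | ⟨⟨h7, hn⟩, hn'⟩) | ⟨⟨h5, hbig⟩, hn⟩
  · exact hf (hcard ▸ not_dvd_factorial hH)
  · exact false_of_seven hcard hord h7 hn (by tauto)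
  · refine false_of_five hcard hTI hN h5 hbig fun n hd hmod => ?_
    have hpos : 0 < Nat.card H / Nat.gcd (Nat.card H) 125 :=
      Nat.div_pos (Nat.gcd_le_left _ Nat.card_pos) (Nat.gcd_pos_of_pos_right _ (by norm_num))
    have := hn n (Nat.lt_succ_of_le (Nat.le_of_dvd hpos hd))
    tauto

end CfsgLib.MinIndex.U35
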